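import Cfsg.Agent.H128.OZ.PlusFin
import Cfsg.Agent.H559.OZ.Twelve
import Cfsg.Agent.H224.OZ.Q3Dat
import Cfsg.Agent.H292.OZ.Two
import Cfsg.Agent.H158.OZ.Crit
import Cfsg.Agent.H985.VZ.Fix

/-!
# S4842, row `POmega⁺₈ (q)`, `q ≥ 3`: the assembly in the frame of `H158.OZ` (helper128)

`YY F = PΩ(plusForm 4 F)`, `pi4 F : E Q →* YY F`; root group datum `RS` of type `D₄` (`TSS`, `nS`, `XS`; nodes `0, 1, 2, 3` of
`TypeD.M 2`, centre `1`).

`HC F` : the facts on the representations of `YY F`; `plusEight_of` : the row.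
-/

set_option autoImplicit false

namespace Cfsg.Agent.H128.OZ.Asm

open Cfsg Module Polynomial
open Cfsg.Agent.Characters
open Cfsg.Agent.ChevalleyStructure.CoxeterGeom Cfsg.Agent.Tits.Roots
open Cfsg.Agent.Nodes.Comb Cfsg.Agent.Nodes.Reps Cfsg.Agent.Nodes.BNOf
open Cfsg.Agent.Nodes.RGDLib Cfsg.Agent.Nodes.WittAll Cfsg.Agent.Nodes.WittU Cfsg.Agent.Nodes.RGDChev
open Cfsg.Agent.LieClassical Cfsg.Agent.LieClassical.OrthCore Cfsg.Agent.LieClassical.OrthTrans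
open Cfsg.Agent.LieClassical.OrthSimple Cfsg.Agent.LieClassical.OrthFinite Cfsg.Agent.LieClassical.OrthForms
open Cfsg.Agent.TitsThree.KSideO
open Cfsg.Agent.Nodes.TypeD Cfsg.Agent.Nodes.WittInst Cfsg.Agent.Nodes Cfsg.Agent.Nodes.Bruhat Cfsg.Agent.Nodes.StabComb
open Cfsg.Agent.Nodes.LeviDec Cfsg.Agent.H985.VZ Cfsg.Agent.H730.OZ Cfsg.Agent.H530.OZ
open Cfsg.Agent.H158.OZ Cfsg.Agent.H292.OZ Cfsg.Agent.H224.OZ.Q3

universe u

section defs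

variable (F : Type) [Field F]

/-- the group -/
abbrev YY : Type := Cfsg.POmega F ⇑(plusForm 4 F)

theorem hG [Finite F] : Good (plusForm 4 F) := by
  apply good_of_finite (nondeg_plusForm 4 F)
  rw [Module.finrank_fintype_fun_eq_card, Fintype.card_sum, Fintype.card_fin]
  omega

variable [Finite F]

/-- the projection -/
noncomputable abbrev pi4 : E (Q8 F) →* YY F := toPOmega (hG F)

theorem pi4_surj : Function.Surjective (pi4 F) := toPOmega_surjective (hG F)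

theorem pi4_ker : ∀ z : E (Q8 F), z ∈ (pi4 F).ker → ∃ a : F, ∀ v, (z : V8 F ≃ₗ[F] V8 F) v = a • v :=
  fun _ hz => scalar_of_center (hG F) (center_of_toPOmega (hG F) hz)

/-- the Coxeter system -/
abbrev cs4 : CoxeterSystem (M 2) (M 2).Group := (M 2).toCoxeterSystem

/-- the torus -/
noncomputable abbrev T4 : Subgroup (YY F) := TSS (pi4 F)

/-- the root groups -/
noncomputable abbrev X4 : (Fin 4 → ℤ) → Subgroup (YY F) := XS (pi4 F)

/-- elliptic elements -/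
abbrev El4 (J : Set (Fin 4)) (t : YY F) : Prop := Ell cs4 (isCartan 2) (T4 F) (X4 F) J t

end defs

variable (F : Type) [Field F] [Fintype F]

theorem rgd4 {p : ℕ} [Fact p.Prime] [CharP F p] : RGD cs4 (isCartan 2) p (T4 F) (nS (pi4 F)) (X4 F) :=
  RS (ker_le (pi4_ker F)) cs4

theorem gg4 : GG cs4 (isCartan 2) (T4 F) (X4 F) = ⊤ := GGS (pi4_surj F) cs4

/-- The facts used in the row `POmega⁺₈ (q)`, `q ≥ 3`. -/
structure HC : Prop where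
  /-- `V^B ≠ 0` -/
  vb : ∀ {N : ℕ} {ρ : Representation ℂ (YY F) (Fin N → ℂ)}, ρ.IsIrreducible → ∀ {t t' t'' : YY F},
    El4 F {0, 1} t → ρ.character t ≠ 0 → El4 F {0, 1, 2} t' → ρ.character t' ≠ 0 →
    El4 F {0, 1, 3} t'' → ρ.character t'' ≠ 0 → fx ρ (RGD.B cs4 (isCartan 2) (T4 F) (X4 F)) ≠ ⊥
  /-- the determinant -/
  det : ∀ {N : ℕ} {ρ : Representation ℂ (YY F) (Fin N → ℂ)}, ρ.IsIrreducible →
    fx ρ (RGD.B cs4 (isCartan 2) (T4 F) (X4 F)) ≠ ⊥ → ∀ {p f : ℕ}, p.Prime → Fintype.card F = p ^ f →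
    ∑ᶠ u ∈ pSet p (YY F), ρ.character u = (p : ℂ) ^ (12 * f) * ρ.character 1 →
    2 * finrank ℂ (fx ρ (PJ cs4 (isCartan 2) (T4 F) (X4 F) {0})) = finrank ℂ (fx ρ (RGD.B cs4 (isCartan 2) (T4 F) (X4 F)))
  /-- the value at an elliptic element of type `{0}` -/
  val0 : ∀ {N : ℕ} {ρ : Representation ℂ (YY F) (Fin N → ℂ)}, ρ.IsIrreducible →
    fx ρ (RGD.B cs4 (isCartan 2) (T4 F) (X4 F)) ≠ ⊥ →
    2 * finrank ℂ (fx ρ (PJ cs4 (isCartan 2) (T4 F) (X4 F) {0})) = finrank ℂ (fx ρ (RGD.B cs4 (isCartan 2) (T4 F) (X4 F))) →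
    ∀ {t : YY F}, El4 F {0} t → ρ.character t = 0
  /-- the value at an elliptic element of type `{0, 1, 2}` is even -/
  even012 : ∀ {N : ℕ} {ρ : Representation ℂ (YY F) (Fin N → ℂ)}, ρ.IsIrreducible →
    fx ρ (RGD.B cs4 (isCartan 2) (T4 F) (X4 F)) ≠ ⊥ →
    2 * finrank ℂ (fx ρ (PJ cs4 (isCartan 2) (T4 F) (X4 F) {0})) = finrank ℂ (fx ρ (RGD.B cs4 (isCartan 2) (T4 F) (X4 F))) →
    ∀ {t : YY F}, El4 F {0, 1, 2} t → ∃ k : ℤ, ρ.character t = 2 * k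
  /-- two classes of elliptic elements -/
  two01 : ∃ t t' : YY F, El4 F {0, 1} t ∧ El4 F {0, 1} t' ∧ ¬ IsConj t t'
  two012 : ∃ t t' : YY F, El4 F {0, 1, 2} t ∧ El4 F {0, 1, 2} t' ∧ ¬ IsConj t t'
  two013 : ∃ t t' : YY F, El4 F {0, 1, 3} t ∧ El4 F {0, 1, 3} t' ∧ ¬ IsConj t t'
  two0 : 4 ≤ Fintype.card F → ∃ t t' : YY F, El4 F {0} t ∧ El4 F {0} t' ∧ ¬ IsConj t t'
  /-- the elements for `q = 3` -/
  three : Fintype.card F = 3 → ∃ z s : E (Q8 F), ZElt z ∧ SElt s ∧ El4 F {0, 1, 2} (pi4 F z) ∧ El4 F {0} (pi4 F s)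

variable {F}

theorem exists_ne_of_two {G : Type*} [Group G] {P : G → Prop} {χ : G → ℂ} (h0 : OneZero χ)
    (h : ∃ t t' : G, P t ∧ P t' ∧ ¬ IsConj t t') : ∃ t, P t ∧ χ t ≠ 0 := by
  obtain ⟨t, t', ht, ht', hne⟩ := h
  by_cases h1 : χ t = 0
  · refine ⟨t', ht', fun h2 => hne ?_⟩
    obtain ⟨x, -, hx⟩ := h0
    exact (hx t h1).symm.trans (hx t' h2)
  · exact ⟨t, ht, h1⟩

/-- **The main step** -/
theorem main (H : HC F) (h3 : 3 ≤ Fintype.card F) {p f : ℕ} (hp : p.Prime) (hcard : Fintype.card F = p ^ f)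
    {χ : YY F → ℂ} (hχ : IsIrrCharacter (YY F) χ) (h0 : OneZero χ)
    (hsum : ∑ᶠ u ∈ pSet p (YY F), χ u = (p : ℂ) ^ (12 * f) * χ 1) : False := by
  obtain ⟨N, ρ, hρ, rfl⟩ := hχ
  obtain ⟨t, ht, h1⟩ := exists_ne_of_two h0 H.two01
  obtain ⟨t', ht', h1'⟩ := exists_ne_of_two h0 H.two012
  obtain ⟨t'', ht'', h1''⟩ := exists_ne_of_two h0 H.two013
  have hB := H.vb hρ ht h1 ht' h1' ht'' h1''
  have hd := H.det hρ hB hp hcard hsum
  rcases h3.lt_or_eq with h4 | h4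
  · obtain ⟨s, hs, h5⟩ := exists_ne_of_two h0 (H.two0 h4)
    exact h5 (H.val0 hρ hB hd hs)
  · obtain ⟨z, s, hz, hs, hz', hs'⟩ := H.three h4.symm
    refine H224.OZ.Q3.q3_end (hG := hG F) (by rw [Nat.card_eq_fintype_card]; exact h4.symm) (MulEquiv.refl (YY F))
      ⟨N, ρ, hρ, rfl⟩ h0 hz hs ?_ ?_
    · exact H.val0 hρ hB hd hs'
    · exact H.even012 hρ hB hd hz'

/-- **The row `POmega⁺₈ (q)`, `q ≥ 3`** -/
theorem plusEight_of (H : ∀ {F : Type} [Field F] [Fintype F], 3 ≤ Fintype.card F → HC F) : PlusEight.{u} := by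
  intro S _ _ hs F _ _ h3 e
  obtain ⟨p, hch⟩ := CharP.exists F
  obtain ⟨⟨f, hf⟩, hp, hcard⟩ := FiniteField.card F p
  simp only [PNat.mk_coe] at hcard
  have hpf : Fact p.Prime := ⟨hp⟩
  have e' : S ≃* YY F := by
    show S ≃* Cfsg.POmega F ⇑(plusForm 4 F)
    rw [coe_plusForm]
    exact e
  have hfin : Finite (YY F) := Finite.of_equiv S e'.toEquiv
  have hsY : IsSimpleGroup (YY F) := e'.symm.isSimpleGroup
  have hK : Kaw p (YY F) := by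
    refine Cfsg.Agent.H279.OZ.kaw_of_hasRGD hp ?_
    show HasRGD p (Cfsg.POmega F ⇑(plusForm 4 F))
    rw [coe_plusForm]
    exact hasRGD_PO_plus 1
  have eY : YY F ≃* Cfsg.POmega F (quadFormPlus 4 F) := by
    show Cfsg.POmega F ⇑(plusForm 4 F) ≃* _
    rw [coe_plusForm]
  refine Cfsg.Agent.H730.OZ.Row.congr e' (Cfsg.Agent.H730.OZ.Row.of_none fun χ hχ h0 => ?_)
  obtain ⟨m, ε, hε, hsum⟩ := hK.sum χ hχ
  obtain ⟨rfl, rfl⟩ := H559.OZ.x12 hsY h3 eY hp hcard hK hχ h0 hε hsum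
  refine main (H h3) h3 hp hcard hχ h0 ?_
  rw [hsum, Int.cast_one, one_mul]

/-! ### The elements, from ellipticity -/

variable (F) in
/-- **(A)** : ellipticity of the elements of helper292 (helper224) -/
structure EA : Prop where
  four : ∀ {z : E (Q8 F)} {f f' : F[X]}, Dat 4 (fun _ => 1) z.1 f f' → El4 F {0, 1, 2} (pi4 F z)
  three : ∀ {z : E (Q8 F)} {f f' : F[X]}, Dat 3 (fun _ => 1) z.1 f f' → El4 F {0, 1} (pi4 F z)
  two : ∀ {z : E (Q8 F)} {f f' : F[X]} {c : F}, c ≠ 0 → c ≠ 1 → Dat 2 ![1, 1, 1, c] z.1 f f' → El4 F {0} (pi4 F z)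

theorem not_isConj {G : Type*} [Group G] {a b : G} (h : ∀ y : G, y * a * y⁻¹ ≠ b) : ¬ IsConj a b := fun h' => by
  obtain ⟨c, hc⟩ := isConj_iff.1 h'
  exact h c hc

theorem EA.two01 (H : EA F) (h3 : 3 ≤ Fintype.card F) : ∃ t t' : YY F, El4 F {0, 1} t ∧ El4 F {0, 1} t' ∧ ¬ IsConj t t' := by
  obtain ⟨z, f, f', f₂, f₂', h1, h2, h4⟩ := exists_three (hG F) (by rw [Nat.card_eq_fintype_card]; exact h3)
  exact ⟨_, _, H.three h1, H.three h2, not_isConj h4⟩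

theorem EA.two012 (H : EA F) (h3 : 3 ≤ Fintype.card F) :
    ∃ t t' : YY F, El4 F {0, 1, 2} t ∧ El4 F {0, 1, 2} t' ∧ ¬ IsConj t t' := by
  obtain ⟨z, f, f', f₂, f₂', h1, h2, -, h4⟩ := exists_four (hG F) (by rw [Nat.card_eq_fintype_card]; exact h3)
  exact ⟨_, _, H.four h1, H.four h2, not_isConj h4⟩

theorem EA.two0 (H : EA F) (h3 : 4 ≤ Fintype.card F) :
    ∃ t t' : YY F, El4 F {0} t ∧ El4 F {0} t' ∧ ¬ IsConj t t' := by
  obtain ⟨z, f, f', f₂, f₂', c, hc0, hc1, hc2, h1, h2, h4⟩ := exists_two (hG F) (by rw [Nat.card_eq_fintype_card]; exact h3)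
  exact ⟨_, _, H.two hc0 hc1 h1, H.two (mul_ne_zero hc0 hc0) hc2 h2, not_isConj h4⟩

theorem EA.elts3 (H : EA F) (h3 : Fintype.card F = 3) :
    ∃ z s : E (Q8 F), ZElt z ∧ SElt s ∧ El4 F {0, 1, 2} (pi4 F z) ∧ El4 F {0} (pi4 F s) := by
  have h3' : Nat.card F = 3 := by rw [Nat.card_eq_fintype_card]; exact h3
  obtain ⟨z, f, f', f₂, f₂', h1, h2, h4, -⟩ := exists_four (hG F) h3'.ge
  obtain ⟨s, g, g', c, hc1, hc0, h5, h6⟩ := exists_two_one (F := F) h3'.ge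
  obtain ⟨rfl, h8, h9⟩ := h6 h3'
  exact ⟨z, s, zelt_of_dat h2 (h4 h3'), selt_of_dat h5 rfl rfl h8 h9, H.four h1, H.two hc0 hc1 h5⟩

end Cfsg.Agent.H128.OZ.Asm
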