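import Cfsg.Agent.H128.OZ.EightAsm
import Cfsg.Agent.H224.OZ.EllDat
import Cfsg.Agent.H631.VZ.DFourB

/-!
# S4842, row `POmega⁺₈ (q)`, `q ≥ 3`: the elliptic elements, `V^B ≠ 0` from the dictionary (helper128)
-/

set_option autoImplicit false

namespace Cfsg.Agent.H128.OZ.Asm

open Cfsg Module Polynomial
open Cfsg.Agent.Characters
open Cfsg.Agent.ChevalleyStructure.CoxeterGeom Cfsg.Agent.Tits.Roots
open Cfsg.Agent.Nodes.Comb Cfsg.Agent.Nodes.Reps Cfsg.Agent.Nodes.BNOf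
open Cfsg.Agent.Nodes.RGDLib Cfsg.Agent.Nodes.WittAll Cfsg.Agent.Nodes.WittU Cfsg.Agent.Nodes.RGDChev
open Cfsg.Agent.LieClassical Cfsg.Agent.LieClassical.OrthCore Cfsg.Agent.LieClassical.OrthTrans
open Cfsg.Agent.LieClassical.OrthSimple Cfsg.Agent.LieClassical.OrthFinite Cfsg.Agent.LieClassical.OrthForms
open Cfsg.Agent.TitsThree.KSideO
open Cfsg.Agent.Nodes.TypeD Cfsg.Agent.Nodes.WittInst Cfsg.Agent.Nodes Cfsg.Agent.Nodes.Bruhat Cfsg.Agent.Nodes.StabComb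
open Cfsg.Agent.Nodes.LeviDec Cfsg.Agent.H985.VZ Cfsg.Agent.H730.OZ Cfsg.Agent.H530.OZ
open Cfsg.Agent.H158.OZ Cfsg.Agent.H292.OZ Cfsg.Agent.H224.OZ.Q3 Cfsg.Agent.H224.OZ.EllDat Cfsg.Agent.H631.VZ

theorem ea (F : Type) [Field F] [Fintype F] : EA F := by
  obtain ⟨p, hch⟩ := CharP.exists F
  obtain ⟨⟨f, hf⟩, hp, hcard⟩ := FiniteField.card F p
  have hpf : Fact p.Prime := ⟨hp⟩
  exact ⟨fun D => ell_four (p := p) (pi4_ker F) (pi4_surj F) D,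
    fun D => ell_three (p := p) (pi4_ker F) (pi4_surj F) D rfl,
    fun _ hc1 D => ell_two (p := p) (pi4_ker F) (pi4_surj F) D rfl hc1⟩

/-- `V^B ≠ 0` from the dictionary -/
theorem vb_of {F : Type} [Field F] [Fintype F] {p : ℕ} [Fact p.Prime] [CharP F p] {B : Type*} [CommGroup B]
    {f : (T4 F →* ℂˣ) → Fin 4 → B} (D : Dic (rgd4 F (p := p)).nsys cs4 (isCartan 2) f)
    {N : ℕ} {ρ : Representation ℂ (YY F) (Fin N → ℂ)} (hρ : ρ.IsIrreducible) {t t' t'' : YY F}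
    (ht : El4 F {0, 1} t) (h1 : ρ.character t ≠ 0) (ht' : El4 F {0, 1, 2} t') (h1' : ρ.character t' ≠ 0)
    (ht'' : El4 F {0, 1, 3} t'') (h1'' : ρ.character t'' ≠ 0) :
    fx ρ (RGD.B cs4 (isCartan 2) (T4 F) (X4 F)) ≠ ⊥ := by
  have : Finite (M 2).Group := finite_W cs4
  have : Finite (V8 F ≃ₗ[F] V8 F) :=
    Finite.of_injective (fun g : V8 F ≃ₗ[F] V8 F => (g : V8 F → V8 F)) DFunLike.coe_injective
  have : Finite (YY F) := Finite.of_surjective _ (pi4_surj F)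
  obtain ⟨h2, h3, -⟩ := VB_D4_of (rgd4 F (p := p)) D (gg4 F) TSS_comm hρ ht h1 ht' h1' ht'' h1''
  rw [← h3]
  exact h2

end Cfsg.Agent.H128.OZ.Asm
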