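import Cfsg.Agent.H128.OZ.EightHec
import Cfsg.Agent.H631.VZ.DicEight

/-!
# S4842, row `POmega⁺₈ (q)`, `q ≥ 3`, from two classes of elliptic elements of type `{0, 1, 3}` (helper128)
-/

set_option autoImplicit false

namespace Cfsg.Agent.H128.OZ.Asm

open Cfsg Module Polynomial
open Cfsg.Agent.Characters
open Cfsg.Agent.ChevalleyStructure.CoxeterGeom Cfsg.Agent.Tits.Roots
open Cfsg.Agent.Nodes.Comb Cfsg.Agent.Nodes.Reps Cfsg.Agent.Nodes.BNOf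
open Cfsg.Agent.Nodes.RGDLib Cfsg.Agent.Nodes.WittAll Cfsg.Agent.Nodes.WittU Cfsg.Agent.Nodes.RGDChev
open Cfsg.Agent.LieClassical Cfsg.Agent.LieClassical.OrthCore Cfsg.Agent.LieClassical.OrthTrans
open Cfsg.Agent.LieClassical.OrthSimple Cfsg.Agent.LieClassical.OrthFinite Cfsg.Agent.LieClassical.OrthForms
open Cfsg.Agent.TitsThree.KSideO
open Cfsg.Agent.Nodes.TypeD Cfsg.Agent.Nodes.WittInst Cfsg.Agent.Nodes Cfsg.Agent.Nodes.Bruhat Cfsg.Agent.Nodes.StabComb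
open Cfsg.Agent.Nodes.LeviDec Cfsg.Agent.H985.VZ Cfsg.Agent.H730.OZ Cfsg.Agent.H530.OZ
open Cfsg.Agent.H158.OZ Cfsg.Agent.H292.OZ Cfsg.Agent.H224.OZ.Q3 Cfsg.Agent.H639.OZ Cfsg.Agent.H631.VZ.Eight

universe u

/-- two classes of elliptic elements of type `{0, 1, 3}` -/
def Two013 (F : Type) [Field F] [Finite F] : Prop :=
  ∃ t t' : YY F, El4 F {0, 1, 3} t ∧ El4 F {0, 1, 3} t' ∧ ¬ IsConj t t'

/-- **The main step** -/
theorem main' {F : Type} [Field F] [Fintype F] (H : Two013 F) (h3 : 3 ≤ Fintype.card F) {p f : ℕ} (hp : p.Prime)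
    [CharP F p] (hcard : Fintype.card F = p ^ f) {χ : YY F → ℂ} (hχ : IsIrrCharacter (YY F) χ) (h0 : OneZero χ)
    (hsum : ∑ᶠ u ∈ pSet p (YY F), χ u = (p : ℂ) ^ (12 * f) * χ 1) : False := by
  have hpf : Fact p.Prime := ⟨hp⟩
  have : Finite (M 2).Group := finite_W cs4
  have : Finite (V8 F ≃ₗ[F] V8 F) :=
    Finite.of_injective (fun g : V8 F ≃ₗ[F] V8 F => (g : V8 F → V8 F)) DFunLike.coe_injective
  have : Finite (YY F) := Finite.of_surjective _ (pi4_surj F)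
  obtain ⟨N, ρ, hρ, rfl⟩ := hχ
  obtain ⟨t, ht, h1⟩ := exists_ne_of_two h0 ((ea F).two01 h3)
  obtain ⟨t', ht', h1'⟩ := exists_ne_of_two h0 ((ea F).two012 h3)
  obtain ⟨t'', ht'', h1''⟩ := exists_ne_of_two h0 H
  have hB : fx ρ (RGD.B cs4 (isCartan 2) (T4 F) (X4 F)) ≠ ⊥ := by
    obtain ⟨h2, h3, -⟩ := VB_eight (pi4_surj F) (ker_le (pi4_ker F)) (p := p) cs4 hρ ht h1 ht' h1' ht'' h1''
    rw [← h3]
    exact h2
  rcases h3.lt_or_eq with h4 | h4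
  · obtain ⟨s, hs, h5⟩ := exists_ne_of_two h0 ((ea F).two0 h4)
    exact h5 (val0 hρ hB hp hcard hsum hs)
  · obtain ⟨z, s, hz, hs, hz', hs'⟩ := (ea F).elts3 h4.symm
    refine H224.OZ.Q3.q3_end (hG := hG F) (by rw [Nat.card_eq_fintype_card]; exact h4.symm) (MulEquiv.refl (YY F))
      ⟨N, ρ, hρ, rfl⟩ h0 hz hs ?_ ?_
    · exact val0 hρ hB hp hcard hsum hs'
    · exact even012 hρ hB hp hcard hsum hz'

/-- **The row `POmega⁺₈ (q)`, `q ≥ 3`** -/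
theorem plusEight_of' (H : ∀ {F : Type} [Field F] [Fintype F], 3 ≤ Fintype.card F → Two013 F) : PlusEight.{u} := by
  intro S _ _ hs F _ _ h3 e
  obtain ⟨p, hch⟩ := CharP.exists F
  obtain ⟨⟨f, hf⟩, hp, hcard⟩ := FiniteField.card F p
  simp only [PNat.mk_coe] at hcard
  have hpf : Fact p.Prime := ⟨hp⟩
  have e' : S ≃* YY F := by
    show S ≃* Cfsg.POmega F ⇑(plusForm 4 F)
    rw [coe_plusForm]
    exact e
  have hfin : Finite (YY F) := Finite.of_equiv S e'.toEquiv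
  have hsY : IsSimpleGroup (YY F) := e'.symm.isSimpleGroup
  have hK : Kaw p (YY F) := by
    refine Cfsg.Agent.H279.OZ.kaw_of_hasRGD hp ?_
    show HasRGD p (Cfsg.POmega F ⇑(plusForm 4 F))
    rw [coe_plusForm]
    exact hasRGD_PO_plus 1
  have eY : YY F ≃* Cfsg.POmega F (quadFormPlus 4 F) := by
    show Cfsg.POmega F ⇑(plusForm 4 F) ≃* _
    rw [coe_plusForm]
  refine Cfsg.Agent.H730.OZ.Row.congr e' (Cfsg.Agent.H730.OZ.Row.of_none fun χ hχ h0 => ?_)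
  obtain ⟨m, ε, hε, hsum⟩ := hK.sum χ hχ
  obtain ⟨rfl, rfl⟩ := H559.OZ.x12 hsY h3 eY hp hcard hK hχ h0 hε hsum
  refine main' (H h3) h3 hp hcard hχ h0 ?_
  rw [hsum, Int.cast_one, one_mul]

end Cfsg.Agent.H128.OZ.Asm
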