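import Cfsg.Agent.H128.OZ.EightEA
import Cfsg.Agent.H639.OZ.DEnd

/-!
# S4842, row `POmega⁺₈ (q)`, `q ≥ 3`: the Hecke facts (helper128)
-/

set_option autoImplicit false

namespace Cfsg.Agent.H128.OZ.Asm

open Cfsg Module Polynomial
open Cfsg.Agent.Characters
open Cfsg.Agent.ChevalleyStructure.CoxeterGeom Cfsg.Agent.Tits.Roots
open Cfsg.Agent.Nodes.Comb Cfsg.Agent.Nodes.Reps Cfsg.Agent.Nodes.BNOf
open Cfsg.Agent.Nodes.RGDLib Cfsg.Agent.Nodes.WittAll Cfsg.Agent.Nodes.WittU Cfsg.Agent.Nodes.RGDChev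
open Cfsg.Agent.LieClassical Cfsg.Agent.LieClassical.OrthCore Cfsg.Agent.LieClassical.OrthTrans
open Cfsg.Agent.LieClassical.OrthSimple Cfsg.Agent.LieClassical.OrthFinite Cfsg.Agent.LieClassical.OrthForms
open Cfsg.Agent.TitsThree.KSideO
open Cfsg.Agent.Nodes.TypeD Cfsg.Agent.Nodes.WittInst Cfsg.Agent.Nodes Cfsg.Agent.Nodes.Bruhat Cfsg.Agent.Nodes.StabComb
open Cfsg.Agent.Nodes.LeviDec Cfsg.Agent.H985.VZ Cfsg.Agent.H730.OZ Cfsg.Agent.H530.OZ
open Cfsg.Agent.Nodes.TypeC (wt ng ng_ng)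
open Cfsg.Agent.H158.OZ Cfsg.Agent.H292.OZ Cfsg.Agent.H224.OZ.Q3 Cfsg.Agent.H639.OZ

/-- the order of the root groups -/
theorem qq4 (F : Type) [Field F] [Fintype F] (i : Fin 4) : qq (X4 F) i = Fintype.card F := by
  rw [← Nat.card_eq_fintype_card]
  have hm : ∀ t : F, (F8 F).X (i, true) (nx (n := 2) i) t ∈ E (Q8 F) := fun t => (amb_plus 4).X_mem _ _ _
  have hac : ((i, true) : Fin 4 × Bool).1 ≠ (nx (n := 2) i).1 := ok_nx (n := 2) i
  refine (Nat.card_congr (Equiv.ofBijective (fun t : F => (⟨pi4 F ⟨_, hm t⟩,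
    (mem_XS hac (ee_sr (n := 2) i)).2 ⟨t, hm t, rfl⟩⟩ : X4 F (sr i))) ⟨?_, ?_⟩)).symm
  · intro t t' h
    have h1 : pi4 F ⟨_, hm t⟩ = pi4 F ⟨_, hm t'⟩ := congrArg Subtype.val h
    obtain ⟨a, ha⟩ := pi4_ker F (⟨_, hm t⟩ * (⟨_, hm t'⟩)⁻¹) (by
      rw [MonoidHom.mem_ker, map_mul, map_inv, h1, mul_inv_cancel])
    have e : ((⟨_, hm t⟩ * (⟨_, hm t'⟩)⁻¹ : E (Q8 F)) : V8 F ≃ₗ[F] V8 F) = (F8 F).X (i, true) (nx (n := 2) i) (t - t') := by
      rw [sub_eq_add_neg, (F8 F).X_add, (F8 F).X_neg]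
      rfl
    have h2 : ∀ v, (F8 F).X (i, true) (nx (n := 2) i) (t - t') v = a • v := fun v => by rw [← e]; exact ha v
    have c1 : (co (ng (nx (n := 2) i)) (bb (i, true)) : F) = 0 := by
      rw [co_bb, if_neg]
      intro h3
      exact hac (congrArg Prod.fst h3).symm
    have c2 : (co (ng (i, true)) (bb (i, true)) : F) = 0 := by
      rw [co_bb, if_neg]
      intro h3
      have h4 := congrArg Prod.snd h3
      simp [ng] at h4
    have h3 := h2 (bb (i, true))
    rw [X8 hac, c1, c2, mul_zero, zero_smul, zero_smul, add_zero, sub_zero] at h3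
    have ha1 : a = 1 := by
      have h4 := congrArg (co (i, true)) h3
      rw [map_smul, co_bb, if_pos rfl, smul_eq_mul, mul_one] at h4
      exact h4.symm
    have h4 := congrArg (co (i, true)) (h2 (bb (ng (nx (n := 2) i))))
    have c3 : (co (i, true) (bb (ng (nx (n := 2) i))) : F) = 0 := by
      rw [co_bb, if_neg]
      intro h3
      have h4 : i = (ng (nx (n := 2) i)).1 := congrArg Prod.fst h3
      exact hac h4
    have c4 : (co (i, true) (bb (nx (n := 2) i)) : F) = 0 := by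
      rw [co_bb, if_neg]
      intro h3
      exact hac (congrArg Prod.fst h3)
    rw [X8 hac, map_sub, map_add, map_smul, map_smul, map_smul, c3, c4, co_bb, co_bb, if_pos rfl, if_pos rfl] at h4
    simp only [smul_eq_mul, mul_one, mul_zero, zero_add, sub_zero] at h4
    exact sub_eq_zero.1 h4
  · rintro ⟨s, hs⟩
    obtain ⟨t, hmt, rfl⟩ := (mem_XS hac (ee_sr (n := 2) i)).1 hs
    exact ⟨t, rfl⟩

section

variable {F : Type} [Field F] [Fintype F] {N : ℕ} {ρ : Representation ℂ (YY F) (Fin N → ℂ)} (hρ : ρ.IsIrreducible)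
  (hB : fx ρ (RGD.B cs4 (isCartan 2) (T4 F) (X4 F)) ≠ ⊥) {p f : ℕ} (hp : p.Prime) (hcard : Fintype.card F = p ^ f)
  (hsum : ∑ᶠ u ∈ pSet p (YY F), ρ.character u = (p : ℂ) ^ (12 * f) * ρ.character 1)

include hρ hB hp hcard hsum

theorem val0 {t : YY F} (ht : El4 F {0} t) : ρ.character t = 0 := by
  have hpf : Fact p.Prime := ⟨hp⟩
  have hf : 0 < f := by
    rcases Nat.eq_zero_or_pos f with h | h
    · rw [h, pow_zero] at hcard
      have := Fintype.one_lt_card (α := F)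
      omega
    · exact h
  have hch : CharP F p := by
    obtain ⟨p', hch'⟩ := CharP.exists F
    obtain ⟨⟨f', hf'⟩, hp', hcard'⟩ := FiniteField.card F p'
    have h1 : p ∣ p' ^ f' := by
      have h2 : Fintype.card F = p' ^ f' := hcard'
      rw [← h2, hcard]
      exact dvd_pow_self p hf.ne'
    have h2 := (Nat.prime_dvd_prime_iff_eq hp hp').1 (hp.dvd_of_dvd_pow h1)
    rw [h2]
    exact hch'
  have : Finite (M 2).Group := finite_W cs4
  have : Finite (V8 F ≃ₗ[F] V8 F) :=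
    Finite.of_injective (fun g : V8 F ≃ₗ[F] V8 F => (g : V8 F → V8 F)) DFunLike.coe_injective
  have : Finite (YY F) := Finite.of_surjective _ (pi4_surj F)
  exact d4_zero (rgd4 F (p := p)) hp (gg4 F) hρ hB (e := 1) (Or.inl rfl) (m := 12 * f)
    (by rw [hsum, Int.cast_one, one_mul]) hf (fun i => (qq4 F i).trans hcard) rfl ht

theorem even012 {t : YY F} (ht : El4 F {0, 1, 2} t) : ∃ k : ℤ, ρ.character t = 2 * k := by
  have hpf : Fact p.Prime := ⟨hp⟩
  have hf : 0 < f := by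
    rcases Nat.eq_zero_or_pos f with h | h
    · rw [h, pow_zero] at hcard
      have := Fintype.one_lt_card (α := F)
      omega
    · exact h
  have hch : CharP F p := by
    obtain ⟨p', hch'⟩ := CharP.exists F
    obtain ⟨⟨f', hf'⟩, hp', hcard'⟩ := FiniteField.card F p'
    have h1 : p ∣ p' ^ f' := by
      have h2 : Fintype.card F = p' ^ f' := hcard'
      rw [← h2, hcard]
      exact dvd_pow_self p hf.ne'
    have h2 := (Nat.prime_dvd_prime_iff_eq hp hp').1 (hp.dvd_of_dvd_pow h1)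
    rw [h2]
    exact hch'
  have : Finite (M 2).Group := finite_W cs4
  have : Finite (V8 F ≃ₗ[F] V8 F) :=
    Finite.of_injective (fun g : V8 F ≃ₗ[F] V8 F => (g : V8 F → V8 F)) DFunLike.coe_injective
  have : Finite (YY F) := Finite.of_surjective _ (pi4_surj F)
  exact d4_even (rgd4 F (p := p)) hp (gg4 F) hρ hB (e := 1) (Or.inl rfl) (m := 12 * f)
    (by rw [hsum, Int.cast_one, one_mul]) hf (fun i => (qq4 F i).trans hcard) rfl (by decide) (by decide) (by decide) ht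

end

end Cfsg.Agent.H128.OZ.Asm
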