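import Cfsg.Agent.H128.OZ.EightFin

/-!
# S4842, row `POmega⁺₈ (q)`, `q ≥ 3`: conjugation by `e₃ ↔ f₃` and the elliptic elements of type `{0, 1, 3}` (helper128)
-/

set_option autoImplicit false

namespace Cfsg.Agent.H128.OZ.Asm

open Cfsg Module Polynomial
open Cfsg.Agent.Characters
open Cfsg.Agent.ChevalleyStructure.CoxeterGeom Cfsg.Agent.Tits.Roots
open Cfsg.Agent.Nodes.Comb Cfsg.Agent.Nodes.Reps Cfsg.Agent.Nodes.BNOf
open Cfsg.Agent.Nodes.RGDLib Cfsg.Agent.Nodes.WittAll Cfsg.Agent.Nodes.WittU Cfsg.Agent.Nodes.RGDChev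
open Cfsg.Agent.LieClassical Cfsg.Agent.LieClassical.OrthCore Cfsg.Agent.LieClassical.OrthTrans
open Cfsg.Agent.LieClassical.OrthSimple Cfsg.Agent.LieClassical.OrthFinite Cfsg.Agent.LieClassical.OrthForms
open Cfsg.Agent.TitsThree.KSideO
open Cfsg.Agent.Nodes.TypeD Cfsg.Agent.Nodes.WittInst Cfsg.Agent.Nodes Cfsg.Agent.Nodes.Bruhat Cfsg.Agent.Nodes.StabComb
open Cfsg.Agent.Nodes.LeviDec Cfsg.Agent.H985.VZ Cfsg.Agent.H730.OZ Cfsg.Agent.H530.OZ
open Cfsg.Agent.Nodes.TypeC (wt ng ng_ng)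
open Cfsg.Agent.H158.OZ Cfsg.Agent.H292.OZ Cfsg.Agent.H224.OZ.EllDat

section rho

/-- the involution of the signed indices -/
def tau (x : Fin 4 × Bool) : Fin 4 × Bool := if x.1 = 3 then ng x else x

theorem tau_tau : ∀ x, tau (tau x) = x := by decide

theorem r1_tau : ∀ x, r1 (tau x) = r2 x := by decide

theorem DI3_tau : ∀ x, DB 3 (tau x) = DB 2 x := by decide

variable (F : Type*) [Field F]

/-- `e₃ ↔ f₃` -/
def rho : V8 F ≃ₗ[F] V8 F := LinearEquiv.funCongrLeft F F (Equiv.swap (Sum.inl 3) (Sum.inr 3))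

variable {F}

theorem co_rho (x : Fin 4 × Bool) (v : V8 F) : co x (rho F v) = co (tau x) v := by
  have h : (Equiv.swap (Sum.inl 3) (Sum.inr 3) : Equiv.Perm (Fin 4 ⊕ Fin 4)) (ix x) = ix (tau x) := by
    revert x
    decide
  show v ((Equiv.swap (Sum.inl 3) (Sum.inr 3) : Equiv.Perm (Fin 4 ⊕ Fin 4)) (ix x)) = v (ix (tau x))
  rw [h]

theorem rho_rho (v : V8 F) : rho F (rho F v) = v := co_ext fun x => by rw [co_rho, co_rho, tau_tau]

theorem rho_sq : rho F * rho F = 1 := LinearEquiv.ext rho_rho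

theorem rho_inv : (rho F)⁻¹ = rho F := inv_eq_of_mul_eq_one_left rho_sq

theorem rho_bb (x : Fin 4 × Bool) : rho F (bb x) = bb (tau x) := co_ext fun y => by
  rw [co_rho, co_bb, co_bb]
  refine if_congr ⟨?_, ?_⟩ rfl rfl
  · rintro rfl
    rw [tau_tau]
  · rintro rfl
    rw [tau_tau]

theorem rho_mem_O : rho F ∈ O (Q8 F) := by
  rw [mem_O]
  intro v
  rw [Q8_apply, Q8_apply]
  refine Finset.sum_congr rfl fun i _ => ?_
  rw [co_rho, co_rho]
  by_cases hi : i = 3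
  · subst hi
    exact mul_comm _ _
  · have h : ∀ b, tau (i, b) = (i, b) := fun b => if_neg hi
    rw [h, h]

theorem rho_mem_SZ {Z Z' : Set (Fin 4 × Bool)} (h : ∀ x, x ∈ Z' ↔ tau x ∈ Z) {v : V8 F} :
    rho F v ∈ SZ Z' ↔ v ∈ SZ Z := by
  rw [mem_SZ, mem_SZ]
  constructor
  · intro h1 x hx
    have h2 := h1 (tau x) (by rw [h, tau_tau]; exact hx)
    rwa [co_rho, tau_tau] at h2
  · intro h1 x hx
    rw [co_rho]
    exact h1 _ fun h2 => hx ((h x).2 h2)

theorem UF_tau {r r' : Fin 4 × Bool → ℕ} (h : ∀ x, r (tau x) = r' x) {u : V8 F ≃ₗ[F] V8 F} (hu : u ∈ UF r') :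
    rho F * u * rho F ∈ UF r := by
  rw [mem_UF] at hu ⊢
  intro k v hv
  have h' : ∀ x, r' (tau x) = r x := fun x => by rw [← h, tau_tau]
  have h1 : rho F v ∈ SZ {x | r' x < k + 1} := (rho_mem_SZ fun x => by
    change r' x < k + 1 ↔ r (tau x) < k + 1
    rw [h]).2 hv
  have h2 := hu k _ h1
  have h3 : (rho F * u * rho F) v - v = rho F (u (rho F v) - rho F v) := by
    rw [map_sub, rho_rho]
    rfl
  rw [h3]
  exact (rho_mem_SZ fun x => by
    change r x < k ↔ r' (tau x) < k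
    rw [h']).2 h2

/-- conjugation by `rho` -/
def rhoE (z : E (Q8 F)) : E (Q8 F) := ⟨rho F * z.1 * (rho F)⁻¹, conj_mem_E rho_mem_O z.2⟩

theorem rhoE_val (z : E (Q8 F)) : (rhoE z).1 = rho F * z.1 * rho F := by
  show rho F * z.1 * (rho F)⁻¹ = _
  rw [rho_inv]

theorem rhoE_mul (z w : E (Q8 F)) : rhoE (z * w) = rhoE z * rhoE w := by
  apply Subtype.ext
  show rho F * (z.1 * w.1) * (rho F)⁻¹ = (rho F * z.1 * (rho F)⁻¹) * (rho F * w.1 * (rho F)⁻¹)
  group

theorem rhoE_inv (z : E (Q8 F)) : rhoE z⁻¹ = (rhoE z)⁻¹ := by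
  apply Subtype.ext
  show rho F * (z.1)⁻¹ * (rho F)⁻¹ = (rho F * z.1 * (rho F)⁻¹)⁻¹
  group

theorem rhoE_rhoE (z : E (Q8 F)) : rhoE (rhoE z) = z := by
  apply Subtype.ext
  rw [rhoE_val, rhoE_val]
  calc rho F * (rho F * z.1 * rho F) * rho F = (rho F * rho F) * z.1 * (rho F * rho F) := by group
    _ = z.1 := by rw [rho_sq, one_mul, mul_one]

theorem rhoE_scalar {z : E (Q8 F)} {a : F} (h : ∀ v, (z : V8 F ≃ₗ[F] V8 F) v = a • v) : rhoE z = z := by
  apply Subtype.ext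
  rw [rhoE_val]
  apply LinearEquiv.ext
  intro v
  show rho F (z.1 (rho F v)) = z.1 v
  rw [h, h, map_smul, rho_rho]

section main

variable [Finite F] {S : Type*} [Group S] {π : E (Q8 F) →* S} {W : Type*} [Group W]
  {cs : CoxeterSystem (TypeD.M 2) W}
  (hk : ∀ z : E (Q8 F), z ∈ π.ker → ∃ a : F, ∀ v, (z : V8 F ≃ₗ[F] V8 F) v = a • v)

include hk

/-- non-conjugacy -/
theorem not_conj_rho (hπ : Function.Surjective π) {z w : E (Q8 F)} (h : ∀ y : S, y * π z * y⁻¹ ≠ π w) (y : S) :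
    y * π (rhoE z) * y⁻¹ ≠ π (rhoE w) := by
  intro h1
  obtain ⟨g, rfl⟩ := hπ y
  have h2 : g * rhoE z * g⁻¹ * (rhoE w)⁻¹ ∈ π.ker := by
    rw [MonoidHom.mem_ker, map_mul, map_inv, map_mul, map_mul, map_inv, h1, mul_inv_cancel]
  obtain ⟨a, ha⟩ := hk _ h2
  have h3 : rhoE (g * rhoE z * g⁻¹ * (rhoE w)⁻¹) = rhoE g * z * (rhoE g)⁻¹ * w⁻¹ := by
    rw [rhoE_mul, rhoE_mul, rhoE_mul, rhoE_inv, rhoE_inv, rhoE_rhoE, rhoE_rhoE]
  rw [← rhoE_scalar ha, h3, MonoidHom.mem_ker, map_mul, map_inv, map_mul, map_mul, map_inv, mul_inv_eq_one] at h2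
  exact h _ h2

/-- **ellipticity of type `{0, 1, 3}`** -/
theorem ell_rho (hπ : Function.Surjective π) {p : ℕ} [Fact p.Prime] [CharP F p] {z : E (Q8 F)} {s : Fin 4 → F}
    {f f' : F[X]} (D : Dat 4 s (z : V8 F ≃ₗ[F] V8 F) f f') :
    Ell cs (isCartan 2) (TSS π) (XS π) {0, 1, 3} (π (rhoE z)) := by
  have hv : ∀ v, (rhoE z : V8 F ≃ₗ[F] V8 F) v = rho F ((z : V8 F ≃ₗ[F] V8 F) (rho F v)) := fun v => by
    rw [rhoE_val]
    rfl
  have key1 : ∀ i : Fin 4, i ∉ ({0, 1, 3} : Set (Fin 4)) → i = 2 := by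
    intro i
    fin_cases i <;> simp
  refine ell_of (p := p) dt2 hk hπ (fun x => ?_) ?_ ⟨(0, true), rfl⟩ (fun u hu hzu => ?_) (ZJ := DI 2) ?_ ?_ ?_
  · rw [hv, rho_bb]
    refine (rho_mem_SZ (Z := {y | r1 y = r1 (tau x)}) fun y => ?_).2 (hz_four D (tau x))
    change r2 y = r2 x ↔ r1 (tau y) = r1 (tau x)
    rw [r1_tau, r1_tau]
  · intro i hi x hx y hy
    have key : ∀ x y : Fin 4 × Bool, DB 2 x = true → r2 y = r2 x → DB 2 y = true := by decide
    have h3 := key1 i hi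
    subst h3
    exact key x y hx hy
  · have h1 : rho F * (u : V8 F ≃ₗ[F] V8 F) * rho F = 1 := by
      refine hc_four D (UF_tau (r := r1) r1_tau hu) ?_
      have h2 : (rhoE z).1 * (u : V8 F ≃ₗ[F] V8 F) = u * (rhoE z).1 := hzu
      rw [rhoE_val] at h2
      calc (z : V8 F ≃ₗ[F] V8 F) * (rho F * (u : V8 F ≃ₗ[F] V8 F) * rho F)
          = (rho F * rho F) * z.1 * (rho F * (u : V8 F ≃ₗ[F] V8 F) * rho F) := by rw [rho_sq, one_mul]
        _ = rho F * (rho F * z.1 * rho F * (u : V8 F ≃ₗ[F] V8 F)) * rho F := by group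
        _ = rho F * ((u : V8 F ≃ₗ[F] V8 F) * (rho F * z.1 * rho F)) * rho F := by rw [h2]
        _ = (rho F * (u : V8 F ≃ₗ[F] V8 F) * rho F) * z.1 * (rho F * rho F) := by group
        _ = _ := by rw [rho_sq, mul_one]
    calc (u : V8 F ≃ₗ[F] V8 F) = (rho F * rho F) * u * (rho F * rho F) := by rw [rho_sq, one_mul, mul_one]
      _ = rho F * (rho F * (u : V8 F ≃ₗ[F] V8 F) * rho F) * rho F := by group
      _ = 1 := by rw [h1, mul_one, rho_sq]
  · intro x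
    constructor
    · intro hx j hj
      rw [key1 j hj]
      exact hx
    · intro h
      exact h 2 (by simp)
  · have key : ∀ i : Fin 4, i ≠ 2 → (∃ x, DB 2 x = true ∧ DB i x = true) ∧ ∃ y, DB 2 y = true ∧ ¬ DB i y = true := by
      decide
    intro i hi
    exact key i (by rintro rfl; simp at hi)
  · intro D' h1 h2
    have hDI : ∀ x, x ∈ DI 2 ↔ tau x ∈ DI 3 := fun x => by
      change DB 2 x = true ↔ DB 3 (tau x) = true
      rw [DI3_tau]
    have h3 := hirr_four D (D'.comap ((rho F : V8 F ≃ₗ[F] V8 F) : V8 F →ₗ[F] V8 F)) (fun v hv' => ?_) (fun v hv' => ?_)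
    · rcases h3 with h3 | h3
      · left
        rw [eq_bot_iff]
        intro v hv'
        have h4 : rho F v ∈ D'.comap ((rho F : V8 F ≃ₗ[F] V8 F) : V8 F →ₗ[F] V8 F) := by
          rw [Submodule.mem_comap]
          show rho F (rho F v) ∈ D'
          rw [rho_rho]
          exact hv'
        rw [h3, Submodule.mem_bot] at h4
        rw [Submodule.mem_bot, ← rho_rho v, h4, map_zero]
      · right
        refine le_antisymm h1 fun v hv' => ?_
        have h4 : rho F v ∈ D'.comap ((rho F : V8 F ≃ₗ[F] V8 F) : V8 F →ₗ[F] V8 F) := by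
          rw [h3]
          refine (rho_mem_SZ (Z := DI 2) fun x => ?_).2 hv'
          rw [hDI, tau_tau]
        have h5 : rho F (rho F v) ∈ D' := h4
        rwa [rho_rho] at h5
    · have h4 : rho F v ∈ D' := hv'
      exact (rho_mem_SZ hDI).1 (h1 h4)
    · have h4 : rho F v ∈ D' := hv'
      have h5 := h2 _ h4
      rw [hv, rho_rho] at h5
      exact h5

end main

end rho

/-- two classes of elliptic elements of type `{0, 1, 3}` -/
theorem two013 {F : Type} [Field F] [Fintype F] (h3 : 3 ≤ Fintype.card F) : Two013 F := by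
  obtain ⟨p, hch⟩ := CharP.exists F
  obtain ⟨⟨f, hf⟩, hp, hcard⟩ := FiniteField.card F p
  have hpf : Fact p.Prime := ⟨hp⟩
  obtain ⟨z, f, f', f₂, f₂', h1, h2, -, h4⟩ := exists_four (hG F) (by rw [Nat.card_eq_fintype_card]; exact h3)
  exact ⟨_, _, ell_rho (p := p) (pi4_ker F) (pi4_surj F) h1, ell_rho (p := p) (pi4_ker F) (pi4_surj F) h2,
    not_isConj (not_conj_rho (pi4_ker F) (pi4_surj F) h4)⟩

end Cfsg.Agent.H128.OZ.Asm
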