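import Cfsg.Agent.H128.OZ.OddIso
import Cfsg.Agent.H364.OZ.Mid

/-!
# S4842: the isolated primes of `Ω_{2n+1} (q)`, `q` odd, `n ≥ 3`, in the form `Cong`, `CP` (helper128)
-/

set_option autoImplicit false

namespace Cfsg.Agent.H128.OZ

open Cfsg Cfsg.Agent.H730.OZ Cfsg.Agent.H530.OZ

universe u

variable {S : Type u} [Group S] [Finite S] {F : Type} [Field F] [Fintype F] {n : ℕ}

theorem charP_of {p f : ℕ} (hp : p.Prime) (hcard : Fintype.card F = p ^ f) : CharP F p := by
  have : Fact p.Prime := ⟨hp⟩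
  obtain ⟨r, hr⟩ := CharP.exists F
  have hrp : r.Prime := (CharP.char_is_prime_or_zero F r).resolve_right (CharP.char_ne_zero_of_finite F r)
  obtain ⟨m, -, hm⟩ := FiniteField.card F r
  have h1 : r ∣ p ^ f := by
    rw [← hcard, hm]
    exact dvd_pow_self r m.pos.ne'
  have h2 : r = p := (Nat.prime_dvd_prime_iff_eq hrp hp).1 (hrp.dvd_of_dvd_pow h1)
  rwa [← h2]

/-- a primitive prime for `q ^ (2n) - 1` divides `q ^ n + 1` -/
theorem prim_minus {p n f r : ℕ} (h : Prim p (2 * n * f) r) (hp : 1 ≤ p) (hn : 0 < n) (hf : 0 < f) :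
    r ∣ (p ^ f) ^ n + 1 ∧ ∀ i : ℕ, 0 < i → i < 2 * n → ¬ r ∣ (p ^ f) ^ i - 1 := by
  constructor
  · have h1 : r ∣ (p ^ (f * n)) ^ 2 - 1 := by
      rw [← pow_mul, h.iff]
      exact ⟨1, by ring⟩
    have h2 := Nat.sq_sub_sq (p ^ (f * n)) 1
    rw [one_pow] at h2
    rw [h2] at h1
    rcases h.prime.dvd_mul.1 h1 with h3 | h3
    · rw [← pow_mul]
      exact h3
    · rw [h.iff] at h3
      have h4 := Nat.le_of_dvd (Nat.mul_pos hf hn) h3
      have h5 : 2 * n * f = f * n + f * n := by ring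
      have h6 := Nat.mul_pos hf hn
      omega
  · intro i hi hin
    rw [← pow_mul, h.iff]
    intro h1
    have h3 := Nat.le_of_dvd (Nat.mul_pos hf hi) h1
    have h4 : f * i < f * (2 * n) := Nat.mul_lt_mul_of_pos_left hin hf
    have h5 : 2 * n * f = f * (2 * n) := by ring
    omega

/-- a primitive prime for `q ^ n - 1` -/
theorem prim_plus {p n f r : ℕ} (h : Prim p (n * f) r) (hf : 0 < f) :
    r ∣ (p ^ f) ^ n - 1 ∧ ∀ i : ℕ, 0 < i → i < n → ¬ r ∣ (p ^ f) ^ i - 1 := by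
  constructor
  · rw [← pow_mul, h.iff]
    exact ⟨1, by ring⟩
  · intro i hi hin
    rw [← pow_mul, h.iff]
    intro h1
    have h3 := Nat.le_of_dvd (Nat.mul_pos hf hi) h1
    have h4 : f * i < f * n := Nat.mul_lt_mul_of_pos_left hin hf
    have h5 : n * f = f * n := by ring
    omega

theorem prim_orderOf {p n r : ℕ} (h : Prim p n r) (hp : 1 ≤ p) : orderOf (p : ZMod r) = n := by
  have hr : Fact r.Prime := ⟨h.prime⟩
  have key : ∀ m : ℕ, (p : ZMod r) ^ m = 1 ↔ n ∣ m := by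
    intro m
    rw [← h.iff, ← ZMod.natCast_eq_zero_iff, Nat.cast_sub (Nat.one_le_pow _ _ hp), Nat.cast_pow, Nat.cast_one,
      sub_eq_zero]
  refine Nat.dvd_antisymm (orderOf_dvd_of_pow_eq_one ((key n).2 dvd_rfl)) ?_
  exact (key _).1 (pow_orderOf_eq_one _)

/-- **`d = 2n`** -/
theorem cong_oodd_minus (hodd : Odd (Fintype.card F)) (hn : 3 ≤ n) (e : S ≃* POmega F (quadFormOdd n F)) {p f r : ℕ}
    (hp : p.Prime) (hcard : Fintype.card F = p ^ f) (h : Prim p (2 * n * f) r) : Cong p r 0 S := by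
  have : Fact p.Prime := ⟨hp⟩
  have hch : CharP F p := charP_of hp hcard
  have hf : 0 < f := by
    rcases Nat.eq_zero_or_pos f with rfl | hf
    · have h1 : 1 < Fintype.card F := Fintype.one_lt_card
      rw [hcard, pow_zero] at h1
      exact absurd h1 (lt_irrefl _)
    · exact hf
  obtain ⟨h1, h2⟩ := prim_minus h hp.one_le (by omega) hf
  exact IsoAt.cong hp h.prime (fun h0 => h.nd (h0 ▸ dvd_rfl))
    (isoMO (p := p) hodd hn e.symm h.prime (by rw [hcard]; exact h1) (by rw [hcard]; exact h2))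

/-- **`d = n`, `n` odd** -/
theorem cong_oodd_plus (hodd : Odd (Fintype.card F)) (hn : 3 ≤ n) (hno : Odd n) (e : S ≃* POmega F (quadFormOdd n F))
    {p f r : ℕ} (hp : p.Prime) (hcard : Fintype.card F = p ^ f) (h : Prim p (n * f) r) : Cong p r 0 S := by
  have : Fact p.Prime := ⟨hp⟩
  have hch : CharP F p := charP_of hp hcard
  have hf : 0 < f := by
    rcases Nat.eq_zero_or_pos f with rfl | hf
    · have h1 : 1 < Fintype.card F := Fintype.one_lt_card
      rw [hcard, pow_zero] at h1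
      exact absurd h1 (lt_irrefl _)
    · exact hf
  obtain ⟨h1, h2⟩ := prim_plus h hf
  exact IsoAt.cong hp h.prime (fun h0 => h.nd (h0 ▸ dvd_rfl))
    (isoPO (p := p) hodd hn hno e.symm h.prime (by rw [hcard]; exact h1) (by rw [hcard]; exact h2))

/-- **`CP`, `d = 2n`** -/
theorem cp_oodd_minus (hodd : Odd (Fintype.card F)) (hn : 3 ≤ n) (e : S ≃* POmega F (quadFormOdd n F)) {p f : ℕ}
    (hp : p.Prime) (hcard : Fintype.card F = p ^ f) : H364.OZ.CP p (2 * n * f) S := by
  have hf : 0 < f := by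
    rcases Nat.eq_zero_or_pos f with rfl | hf
    · have h1 : 1 < Fintype.card F := Fintype.one_lt_card
      rw [hcard, pow_zero] at h1
      exact absurd h1 (lt_irrefl _)
    · exact hf
  have h3 : 3 ≤ 2 * n * f := by
    have : 2 * n * 1 ≤ 2 * n * f := Nat.mul_le_mul_left _ hf
    omega
  obtain ⟨r, hr⟩ := exists_prim (p := p) hp.two_le h3 (by
    rintro ⟨rfl, -⟩
    rw [hcard] at hodd
    exact (Nat.not_odd_iff_even.2 ((even_two).pow_of_ne_zero hf.ne')) hodd)
  exact ⟨r, hr.prime, prim_orderOf hr hp.one_le, cong_oodd_minus hodd hn e hp hcard hr⟩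

/-- **`CP`, `d = n`, `n` odd** -/
theorem cp_oodd_plus (hodd : Odd (Fintype.card F)) (hn : 3 ≤ n) (hno : Odd n) (e : S ≃* POmega F (quadFormOdd n F))
    {p f : ℕ} (hp : p.Prime) (hcard : Fintype.card F = p ^ f) : H364.OZ.CP p (n * f) S := by
  have hf : 0 < f := by
    rcases Nat.eq_zero_or_pos f with rfl | hf
    · have h1 : 1 < Fintype.card F := Fintype.one_lt_card
      rw [hcard, pow_zero] at h1
      exact absurd h1 (lt_irrefl _)
    · exact hf
  have h3 : 3 ≤ n * f := by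
    have : n * 1 ≤ n * f := Nat.mul_le_mul_left _ hf
    omega
  obtain ⟨r, hr⟩ := exists_prim (p := p) hp.two_le h3 (by
    rintro ⟨rfl, -⟩
    rw [hcard] at hodd
    exact (Nat.not_odd_iff_even.2 ((even_two).pow_of_ne_zero hf.ne')) hodd)
  exact ⟨r, hr.prime, prim_orderOf hr hp.one_le, cong_oodd_plus hodd hn hno e hp hcard hr⟩

end Cfsg.Agent.H128.OZ
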