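import Cfsg.Agent.H128.OZ.EightRho

/-!
# S4842: the family `POmega⁺` (helper128)
-/

set_option autoImplicit false

namespace Cfsg.Agent.H128.OZ

universe u

/-- **The row `POmega⁺₈ (q)`, `q ≥ 3`** -/
theorem plusEight : PlusEight.{u} := Asm.plusEight_of' fun h => Asm.two013 h

/-- **The family `POmega⁺`** -/
theorem row_pomegaPlus {S : Type u} [Group S] [Finite S] (hs : IsSimpleGroup S) (h : Cfsg.IsPOmegaPlus S) :
    Cfsg.Agent.H730.OZ.Row S := row_isPOmegaPlus plusEight hs h

end Cfsg.Agent.H128.OZ
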