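import Cfsg.Agent.H128.OZ.PlusLoc
import Cfsg.Agent.H530.OZ.KCRow
import Cfsg.Agent.H785.OZ8.Row

/-!
# S4842: the family `POmega⁺`, from the row `POmega⁺₈ (q)`, `q ≥ 3` (helper128)
-/

set_option autoImplicit false

namespace Cfsg.Agent.H128.OZ

open Cfsg Cfsg.Agent.H730.OZ Cfsg.Agent.H530.OZ

universe u

/-- the row `POmega⁺₈ (q)`, `q ≥ 3` -/
def PlusEight : Prop := ∀ {S : Type u} [Group S] [Finite S], IsSimpleGroup S → ∀ {F : Type} [Field F] [Fintype F],
    3 ≤ Fintype.card F → (S ≃* POmega F (quadFormPlus 4 F)) → Cfsg.Agent.H730.OZ.Row S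

theorem prim17 : Prim 2 8 17 where
  prime := by norm_num
  iff m := by
    have h : ∀ m : ℕ, 2 ^ m % 17 = 2 ^ (m % 8) % 17 := by
      intro m
      conv_lhs => rw [← Nat.div_add_mod m 8, pow_add, pow_mul]
      rw [Nat.mul_mod, Nat.pow_mod]
      norm_num
    have h1 : 1 ≤ 2 ^ m := Nat.one_le_two_pow
    rw [← (Nat.modEq_iff_dvd' h1), Nat.ModEq, Nat.dvd_iff_mod_eq_zero]
    have h2 : m % 8 < 8 := Nat.mod_lt _ (by norm_num)
    rw [h m]
    generalize m % 8 = k at h2
    interval_cases k <;> simp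
  dvd := by norm_num
  nd := by norm_num

theorem plusRest (H : PlusEight.{u}) : PlusRest.{u} where
  eight := H
  eight_two := fun hs _ _ _ hF e => H785.OZ8.row_plus_eight_two hs hF e
  seventeen := fun _ _ _ _ hF e => kc_plus (n := 6) le_rfl e 2 1 17 Nat.prime_two (by rw [hF]; norm_num) prim17
  kc := fun _ _ _ _ _ hn _ _ e => kc_plus hn e

/-- **The family `POmega⁺`** -/
theorem row_isPOmegaPlus (H : PlusEight.{u}) {S : Type u} [Group S] [Finite S] (hs : IsSimpleGroup S)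
    (h : IsPOmegaPlus S) : Cfsg.Agent.H730.OZ.Row S := row_isPOmegaPlus_of' (plusRest H) hs h

end Cfsg.Agent.H128.OZ
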